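import Mathlib
import Cfsg.Agent.H914.Gs.SpBase

/-!
# S4327, symplectic groups: growth of natural subgroups (helper110, for helper914)

* `gen_a`, `gen_b` : generation of `T (W₀ + ⟨z, z'⟩)`;
* `chain` : two more conjugates lead from `W j` to `W (j + 1)`.
-/

set_option autoImplicit false
set_option maxHeartbeats 400000

namespace Cfsg.Agent.H110.Gs

open Cfsg Cfsg.Agent.H915.Gs Cfsg.Agent.H914.Gs
open Cfsg.Agent.ClassicalGeometry.SympBasic Cfsg.Agent.ClassicalGeometry.SympSiegel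
  Cfsg.Agent.ClassicalGeometry.SympAutSemi

variable {F : Type*} [Field F] {m : ℕ}

local notation "V" => (Fin m ⊕ Fin m → F)
local notation "G" => Matrix.symplecticGroup (Fin m) F
local notation "f" => sympForm m F

/-- the vectors whose root group lies in `J` -/
def Del (J : Subgroup (Matrix.symplecticGroup (Fin m) F)) (v : Fin m ⊕ Fin m → F) : Prop :=
  ∀ c : F, transv v c ∈ J

theorem Del.smul {J : Subgroup G} {v : V} (h : Del J v) (a : F) : Del J (a • v) :=
  fun c => transv_smul_mem h a c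

theorem Del.of_smul {J : Subgroup G} {v : V} {a : F} (ha : a ≠ 0) (h : Del J (a • v)) : Del J v :=
  fun c => transv_mem_of_smul ha h c

theorem Del.act {J : Subgroup G} {v : V} (h : Del J v) {g : G} (hg : g ∈ J) : Del J (g • v) := by
  intro c
  rw [← conj_transv]
  exact mul_mem (mul_mem hg (h c)) (inv_mem hg)

/-- **closure**: two vectors which are not perpendicular -/
theorem Del.add {J : Subgroup G} {v w : V} (hv : Del J v) (hw : Del J w) (h : f v w ≠ 0) (t : F) :
    Del J (v + t • w) := by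
  have h1 := hv.act (hw (t * (f v w)⁻¹))
  rw [transv_smul, mul_assoc, inv_mul_cancel₀ h, mul_one] at h1
  exact h1

theorem Del.add_one {J : Subgroup G} {v w : V} (hv : Del J v) (hw : Del J w) (h : f v w ≠ 0) :
    Del J (v + w) := by
  have := hv.add hw h 1
  rwa [one_smul] at this

theorem Del.mono {J J' : Subgroup G} (h : J ≤ J') {v : V} (hv : Del J v) : Del J' v := fun c => h (hv c)

theorem mem_Del_of_T {J : Subgroup G} {S : Set V} (h : T S ≤ J) {v : V} (hv : v ∈ S) : Del J v :=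
  fun c => T_le.1 h v hv c

theorem T_le_of_Del {J : Subgroup G} {S : Set V} (h : ∀ v ∈ S, Del J v) : T S ≤ J := T_le.2 h

/-- in a non-degenerate subspace: a vector perpendicular to neither of two -/
theorem exists_both {W₀ : Submodule F V} (hW : ∀ w ∈ W₀, w ≠ 0 → ∃ w' ∈ W₀, f w w' ≠ 0) {x y : V} (hx : x ∈ W₀)
    (hx0 : x ≠ 0) (hy : y ∈ W₀) (hy0 : y ≠ 0) : ∃ z ∈ W₀, f x z ≠ 0 ∧ f y z ≠ 0 := by
  obtain ⟨a, haW, ha⟩ := hW x hx hx0
  obtain ⟨b, hbW, hb⟩ := hW y hy hy0
  by_cases ha' : f y a = 0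
  · by_cases hb' : f x b = 0
    · refine ⟨a + b, W₀.add_mem haW hbW, ?_, ?_⟩
      · rwa [sympForm_add_right, hb', add_zero]
      · rwa [sympForm_add_right, ha', zero_add]
    · exact ⟨b, hbW, hb', hb⟩
  · exact ⟨a, haW, ha, ha'⟩

theorem step_aux {W₀ : Submodule F V} {z : V} (hz : ∀ w ∈ W₀, f w z = 0) {J : Subgroup G}
    (h1 : ∀ w ∈ W₀, Del J w) {x y : V} (hx : x ∈ W₀) (hy : y ∈ W₀) (hxy : f x y ≠ 0) (h : Del J (x + z)) :
    Del J (y + z) := by
  have h2 : y - x ∈ W₀ := W₀.sub_mem hy hx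
  have h3 : f (x + z) (y - x) ≠ 0 := by
    rw [sympForm_add_left, sympForm_sub_right, sympForm_self, sub_zero, sympForm_swap z, hz _ h2, neg_zero, add_zero]
    exact hxy
  have h4 := h.add_one (h1 _ h2) h3
  have h5 : x + z + (y - x) = y + z := by abel
  rwa [h5] at h4

/-- all vectors `w' + z`, `w' ≠ 0` -/
theorem all_aux {W₀ : Submodule F V} (hW : ∀ w ∈ W₀, w ≠ 0 → ∃ w' ∈ W₀, f w w' ≠ 0) {z : V}
    (hz : ∀ w ∈ W₀, f w z = 0) {J : Subgroup G}
    (h1 : ∀ w ∈ W₀, Del J w) {x y : V} (hx : x ∈ W₀) (hx0 : x ≠ 0) (hy : y ∈ W₀) (hy0 : y ≠ 0)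
    (h : Del J (x + z)) : Del J (y + z) := by
  obtain ⟨t, ht, h2, h3⟩ := exists_both hW hx hx0 hy hy0
  refine step_aux hz h1 ht hy ?_ (step_aux hz h1 hx ht h2 h)
  rw [sympForm_swap]
  exact neg_ne_zero.2 h3

/-- the product of four transvections -/
theorem four_transv {w z : V} (h : f w z = 0) {a a' : F} (ha' : a' ≠ 0) :
    transv (w + z) a * transv w (-a) * (transv (-(a / a') • w + z) a' * transv (-(a / a') • w) (-a')) =
      transv z (a + a') := by
  have h' : f z w = 0 := by rw [sympForm_swap, h, neg_zero]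
  apply ext_smul
  intro x
  simp only [mul_smul, transv_smul, sympForm_add_left, sympForm_add_right, sympForm_smul_left, sympForm_smul_right,
    sympForm_self, h, h']
  ext i
  simp only [Pi.add_apply, Pi.smul_apply, smul_eq_mul]
  field_simp
  ring

/-- GENA -/
theorem gen_a [Finite F] (hF : 3 ≤ Nat.card F) {W₀ : Submodule F V} (hW : ∀ w ∈ W₀, w ≠ 0 → ∃ w' ∈ W₀, f w w' ≠ 0)
    {z : V} (hz : ∀ w ∈ W₀, f w z = 0) {w : V} (hw : w ∈ W₀) (hw0 : w ≠ 0) {J : Subgroup G}
    (h1 : T (W₀ : Set V) ≤ J) (h2 : ∀ c : F, transv (w + z) c ∈ J) :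
    ∀ w' ∈ W₀, ∀ a c : F, transv (w' + a • z) c ∈ J := by
  have hD : ∀ w ∈ W₀, Del J w := fun x hx => mem_Del_of_T h1 hx
  have hall : ∀ y ∈ W₀, y ≠ 0 → Del J (y + z) := fun y hy hy0 => all_aux hW hz hD hw hw0 hy hy0 h2
  have hz1 : Del J z := by
    intro c
    by_cases hc : c = 0
    · rw [hc, transv_zero]
      exact one_mem J
    obtain ⟨a, ha⟩ : ∃ a : F, a ∉ ({0, c} : Set F) := by
      by_contra hcon
      push Not at hcon
      have h3 : (Set.univ : Set F) ⊆ {0, c} := fun x _ => hcon x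
      have h4 := Set.ncard_le_ncard h3 (Set.toFinite _)
      rw [Set.ncard_univ] at h4
      have h5 := Set.ncard_insert_le (0 : F) {c}
      rw [Set.ncard_singleton] at h5
      omega
    rw [Set.mem_insert_iff, Set.mem_singleton_iff, not_or] at ha
    have ha' : c - a ≠ 0 := sub_ne_zero.2 (Ne.symm ha.2)
    have h3 := four_transv (hz w hw) (a := a) ha'
    rw [add_sub_cancel] at h3
    rw [← h3]
    have h4 : -(a / (c - a)) • w ∈ W₀ := W₀.smul_mem _ hw
    have h5 : -(a / (c - a)) • w ≠ 0 := smul_ne_zero (neg_ne_zero.2 (div_ne_zero ha.1 ha')) hw0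
    exact mul_mem (mul_mem (h2 _) (hD w hw _)) (mul_mem (hall _ h4 h5 _) (hD _ h4 _))
  intro w' hw' a
  change Del J (w' + a • z)
  by_cases ha : a = 0
  · rw [ha, zero_smul, add_zero]
    exact hD w' hw'
  by_cases hw0' : w' = 0
  · rw [hw0', zero_add]
    exact hz1.smul a
  have h3 : w' + a • z = a • (a⁻¹ • w' + z) := by
    rw [smul_add, smul_smul, mul_inv_cancel₀ ha, one_smul]
  rw [h3]
  exact Del.smul (hall _ (W₀.smul_mem _ hw') (smul_ne_zero (inv_ne_zero ha) hw0')) a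

/-- GENB -/
theorem gen_b {W₀ : Submodule F V} {z z' : V} (hz : ∀ w ∈ W₀, f w z = 0) (hz' : ∀ w ∈ W₀, f w z' = 0)
    (hzz : f z z' ≠ 0) {J : Subgroup G}
    (h1 : ∀ w ∈ W₀, ∀ a c : F, transv (w + a • z) c ∈ J) {w₁ : V} (hw₁ : w₁ ∈ W₀)
    (h2 : ∀ c : F, transv (w₁ + z') c ∈ J) :
    ∀ w ∈ W₀, ∀ a b c : F, transv (w + a • z + b • z') c ∈ J := by
  have hD : ∀ w ∈ W₀, ∀ a : F, Del J (w + a • z) := fun w hw a => h1 w hw a
  have hD2 : Del J (w₁ + z') := h2
  have hz1 : Del J z := by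
    have := hD 0 W₀.zero_mem 1
    rwa [zero_add, one_smul] at this
  -- all the vectors `w₁ + c z + z'`
  have h3 : ∀ c : F, Del J (w₁ + c • z + z') := by
    intro c
    have h4 : f (w₁ + z') z ≠ 0 := by
      rw [sympForm_add_left, hz _ hw₁, zero_add, sympForm_swap]
      exact neg_ne_zero.2 hzz
    have h5 := hD2.add hz1 h4 c
    have h6 : w₁ + z' + c • z = w₁ + c • z + z' := by abel
    rwa [h6] at h5
  -- all the vectors `w + a z + z'`
  have h4 : ∀ w ∈ W₀, ∀ a : F, Del J (w + a • z + z') := by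
    intro w hw a
    let c : F := a - f w₁ w / f z z' + 1
    have hc : f (w₁ + c • z + z') ((w - w₁) + (a - c) • z) ≠ 0 := by
      have e1 : f (w₁ + c • z + z') ((w - w₁) + (a - c) • z) = f z z' := by
        simp only [sympForm_add_left, sympForm_add_right, sympForm_sub_right, sympForm_smul_left,
          sympForm_smul_right, sympForm_self, hz w₁ hw₁, sympForm_swap z w, sympForm_swap z w₁, sympForm_swap z' w,
          sympForm_swap z' w₁, sympForm_swap z' z, hz w hw, hz' w hw, hz' w₁ hw₁]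
        simp only [c]
        field_simp
        ring
      rw [e1]
      exact hzz
    have h5 := (h3 c).add_one (hD _ (W₀.sub_mem hw hw₁) (a - c)) hc
    have h6 : w₁ + c • z + z' + (w - w₁ + (a - c) • z) = w + a • z + z' := by module
    rwa [h6] at h5
  intro w hw a b
  change Del J (w + a • z + b • z')
  by_cases hb : b = 0
  · rw [hb, zero_smul, add_zero]
    exact hD w hw a
  have h5 : w + a • z + b • z' = b • (b⁻¹ • w + (b⁻¹ * a) • z + z') := by
    rw [smul_add, smul_add, smul_smul, smul_smul, mul_inv_cancel₀ hb, one_smul, mul_inv_cancel_left₀ hb]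
  rw [h5]
  exact Del.smul (h4 _ (W₀.smul_mem _ hw) _) b

/-! ### The standard basis -/

theorem e_mem_W {j : ℕ} {i : Fin m} (hi : (i : ℕ) < j) : (e i : V) ∈ W m F j := by
  intro k hk
  have h1 : k ≠ i := by
    rintro rfl
    omega
  simp [e, h1]

theorem e'_mem_W {j : ℕ} {i : Fin m} (hi : (i : ℕ) < j) : (e' i : V) ∈ W m F j := by
  intro k hk
  have h1 : k ≠ i := by
    rintro rfl
    omega
  simp [e', h1]

theorem e_ne_zero (i : Fin m) : (e i : V) ≠ 0 := by
  intro h
  have := congrFun h (Sum.inr i)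
  simp [e] at this

theorem form_e_e' (i : Fin m) : f (e i) (e' i) = 1 := by
  rw [form_e_left]
  simp [e']

theorem W_nd {j : ℕ} : ∀ w ∈ W m F j, w ≠ 0 → ∃ w' ∈ W m F j, f w w' ≠ 0 := by
  intro w hw hw0
  obtain ⟨i, hi⟩ : ∃ i, w i ≠ 0 := by
    by_contra hc
    push Not at hc
    exact hw0 (funext hc)
  rcases i with i | i
  · have hij : (i : ℕ) < j := by
      by_contra hc
      exact hi (hw i (by omega)).1
    refine ⟨e i, e_mem_W hij, ?_⟩
    rw [form_e_right]
    exact neg_ne_zero.2 hi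
  · have hij : (i : ℕ) < j := by
      by_contra hc
      exact hi (hw i (by omega)).2
    refine ⟨e' i, e'_mem_W hij, ?_⟩
    rw [form_e'_right]
    exact hi

theorem W_perp_e {j : ℕ} {i : Fin m} (hi : j ≤ i) : ∀ w ∈ W m F j, f w (e i) = 0 := by
  intro w hw
  rw [form_e_right, (hw i hi).1, neg_zero]

theorem W_perp_e' {j : ℕ} {i : Fin m} (hi : j ≤ i) : ∀ w ∈ W m F j, f w (e' i) = 0 := by
  intro w hw
  rw [form_e'_right, (hw i hi).2]

theorem W_succ {j : ℕ} (hj : j < m) {v : V} (hv : v ∈ W m F (j + 1)) :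
    ∃ w ∈ W m F j, v = w + v (Sum.inr ⟨j, hj⟩) • e ⟨j, hj⟩ + v (Sum.inl ⟨j, hj⟩) • e' ⟨j, hj⟩ := by
  refine ⟨v - v (Sum.inr ⟨j, hj⟩) • e ⟨j, hj⟩ - v (Sum.inl ⟨j, hj⟩) • e' ⟨j, hj⟩, ?_, by abel⟩
  intro i hi
  by_cases hij : i = ⟨j, hj⟩
  · subst hij
    simp [e, e']
  · have h1 : j + 1 ≤ (i : ℕ) := by
      have : (i : ℕ) ≠ j := fun h => hij (Fin.ext h)
      omega
    simp [e, e', hij, hv i h1]

theorem linInd_add {u w : V} (hu : u ≠ 0) {i : Fin m ⊕ Fin m} (h1 : u i = 0) (h2 : w i ≠ 0) :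
    LinearIndependent F ![u, w] := by
  rw [LinearIndependent.pair_iff]
  intro s t hst
  have h3 := congrFun hst i
  rw [Pi.add_apply, Pi.smul_apply, Pi.smul_apply, h1, smul_zero, zero_add, smul_eq_mul, Pi.zero_apply] at h3
  have h4 : t = 0 := (mul_eq_zero.1 h3).resolve_right h2
  rw [h4, zero_smul, add_zero] at hst
  exact ⟨(smul_eq_zero.1 hst).resolve_right hu, h4⟩

/-- CHAIN -/
theorem chain [Finite F] (hF : 3 ≤ Nat.card F) {g : semiSim m F} {φ : F ≃+* F} {l : F} (hl : l ≠ 0)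
    (hg : IsSemi g.1 φ l) (hns : ∃ v, LinearIndependent F ![v, g.1 v]) {j k : ℕ} (hj : 1 ≤ j) (hjm : j < m)
    (h : Reach (conjHom m F g) k (T (W m F j : Set V))) :
    Reach (conjHom m F g) (k + 2) (T (W m F (j + 1) : Set V)) := by
  have h0m : 0 < m := by omega
  let i0 : Fin m := ⟨0, h0m⟩
  let ij : Fin m := ⟨j, hjm⟩
  have hi0 : (i0 : ℕ) < j := hj
  have hne : ij ≠ i0 := by
    intro hc
    have := congrArg Fin.val hc
    simp only [ij, i0] at this
    omega
  have m0 : (e i0 : V) ∈ W m F j := e_mem_W hi0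
  have m0' : (e' i0 : V) ∈ W m F j := e'_mem_W hi0
  have hz : ∀ w ∈ W m F j, f w (e ij) = 0 := W_perp_e le_rfl
  have hz' : ∀ w ∈ W m F j, f w (e' ij) = 0 := W_perp_e' le_rfl
  have hD : ∀ v ∈ W m F j, ∀ c : F, transv v c ∈ T (W m F j : Set V) := fun v hv c => transv_mem_T hv c
  -- the two root groups
  have key : Reach (conjHom m F g) (k + 2) (T (W m F j : Set V) ⊔ T {e i0 + e ij} ⊔ T {e' ij}) := by
    by_cases hN : ∃ v, f v (g.1 v) ≠ 0
    · obtain ⟨v₀, h₀⟩ := hN
      have h1 := Reach.rootN hl hg h h₀ (v := e' i0) (w := e i0 + e ij) (by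
        rw [form_e'_left]
        simp [e, hne]
        ) (hD _ m0')
      refine Reach.rootN hl hg h1 h₀ (v := e i0 + e ij) (w := e' ij) ?_ ?_
      · rw [sympForm_add_left, hz' _ m0, zero_add, form_e_e']
        exact one_ne_zero
      · intro c
        exact Subgroup.mem_sup_right (transv_mem_T (Set.mem_singleton _) c)
    · push Not at hN
      obtain ⟨v₀, hv₀⟩ := hns
      have h1 := Reach.rootP hl hg h (hN v₀) hv₀ (v := e i0) (w := e i0 + e ij) (by
        rw [sympForm_add_right, sympForm_self, hz _ m0, zero_add]) (linInd_add (e_ne_zero i0) (i := Sum.inr ij)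
          (by simp [e, hne]) (by simp [e, hne])) (hD _ m0)
      refine Reach.rootP hl hg h1 (hN v₀) hv₀ (v := e i0) (w := e' ij) (hz' _ m0)
        (linInd_add (e_ne_zero i0) (i := Sum.inl ij) (by simp [e]) (by simp [e'])) ?_
      intro c
      exact Subgroup.mem_sup_left (hD _ m0 c)
  refine key.sub ?_
  have h1 : T (W m F j : Set V) ≤ T (W m F j : Set V) ⊔ T {e i0 + e ij} ⊔ T {e' ij} :=
    le_sup_left.trans le_sup_left
  have h2 : ∀ c : F, transv (e i0 + e ij) c ∈ T (W m F j : Set V) ⊔ T {e i0 + e ij} ⊔ T {e' ij} := fun c =>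
    Subgroup.mem_sup_left (Subgroup.mem_sup_right (transv_mem_T (Set.mem_singleton _) c))
  have h3 : ∀ c : F, transv (0 + e' ij) c ∈ T (W m F j : Set V) ⊔ T {e i0 + e ij} ⊔ T {e' ij} := fun c => by
    rw [zero_add]
    exact Subgroup.mem_sup_right (transv_mem_T (Set.mem_singleton _) c)
  have h4 := gen_a hF W_nd hz m0 (e_ne_zero i0) h1 h2
  have h5 := gen_b hz hz' (by rw [form_e_e']; exact one_ne_zero) h4 (W m F j).zero_mem h3
  rw [T_le]
  intro v hv c
  obtain ⟨w, hw, hvw⟩ := W_succ hjm hv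
  rw [hvw]
  exact h5 w hw _ _ c

end Cfsg.Agent.H110.Gs
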